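import Cfsg.Agent.Lib.Sporadic.FiTransfer.Fi23Ten.Data
import Cfsg.Agent.Lib.Sporadic.Fi23Out.Defs

/-!
Checks for the subgroup 3^10.GL3(3) of the presented group Fi23: the transpositions of an orbit of 81 points, the
action on it, and the test points.
-/

set_option autoImplicit false

namespace CfsgLib.Sporadic.Fi23Ten

open CosetCert CosetCert.Fi23Data CosetCert.Fi23P.OutFi

/-- The image of a point under a product of transpositions given by halves. -/
noncomputable def imgS (hs : List (List ℕ × ℕ)) (u : ℕ) : ℕ :=
  hs.foldr (fun h u => PTab.runL (rowsOf (fullWord h)) u) u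

/-- The half of a member of the orbit. -/
def oh (i : ℕ) : List ℕ × ℕ := oHalf.getD i ([], 0)

/-- A member of the orbit. -/
def op (i : ℕ) : ℕ := oPts.getD i 31671

/-- The halves of a word in the orbit. -/
def twH (w : List ℕ) : List (List ℕ × ℕ) := w.map oh

/-- The halves of a letter: ten generators of the normal subgroup, two of the complement. -/
def mSeq (l : ℕ) : List (List ℕ × ℕ) :=
  if l < 10 then twH (yW.getD l []) else if l = 10 then hSeq else if l = 11 then tSeq else []

/-- The halves of a word in the letters. -/
def mW (w : List ℕ) : List (List ℕ × ℕ) := w.flatMap mSeq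

/-- An entry of a packed row. -/
def pp (N j : ℕ) : ℕ := Nat.mod (Nat.shiftRight N (Nat.mul 8 j)) 256

/-- The action of the orbit on itself. -/
def tt (i j : ℕ) : ℕ := pp (tT.getD i 0) j

/-- The action of a letter on the orbit. -/
def lp (l j : ℕ) : ℕ := pp (yPerm.getD l 0) j

/-- The action of a word in the letters on the orbit. -/
noncomputable def lw (w : List ℕ) (j : ℕ) : ℕ := w.foldr lp j

/-- The action of a word in the orbit on the orbit. -/
noncomputable def twP (w : List ℕ) (j : ℕ) : ℕ := w.foldr tt j

/-- The four base members of the orbit. -/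
def base4 : List ℕ := [0, 3, 9, 27]

/-- The six points deciding equality. -/
def six : List ℕ := [op 0, op 3, op 9, op 27, vPt, wPt]

/-- Two products agree at the six points. -/
noncomputable def sameSix (A B : List (List ℕ × ℕ)) : Bool := six.all fun u => Nat.beq (imgS A u) (imgS B u)

/-- Two words agree on the base. -/
noncomputable def sameBase (A B : List ℕ) : Bool := base4.all fun b => Nat.beq (lw A b) (lw B b)

/-- A word in the first seven letters with given exponents. -/
def eWord (e : ℕ) : List ℕ :=
  (List.range 7).flatMap fun i => List.replicate (e / 3 ^ i % 3) i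

/-- A word in the last three letters with given exponents. -/
def zWord (m : ℕ) : List ℕ :=
  (List.range 3).flatMap fun i => List.replicate (m / 3 ^ i % 3) (7 + i)

/-- Minus the sum in the plane of blocks. -/
def op27 (a b : ℕ) : ℕ :=
  (6 - a % 3 - b % 3) % 3 + 3 * ((6 - a / 3 % 3 - b / 3 % 3) % 3) + 9 * ((6 - a / 9 - b / 9) % 3)

/-- The sum in the space of blocks. -/
def add27 (a b : ℕ) : ℕ :=
  (a % 3 + b % 3) % 3 + 3 * ((a / 3 % 3 + b / 3 % 3) % 3) + 9 * ((a / 9 + b / 9) % 3)

/-- The words of the transpositions in use. -/
noncomputable def halfsK : Bool :=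
  (List.range 81).all (fun i => Nat.blt (op i) 31671 && halfK (op i) (oh i)) &&
    (List.range 64).all (fun m => Nat.blt (closPts.getD m 31671) 31671 &&
      halfK (closPts.getD m 31671) (closHalf.getD m ([], 0))) &&
    (List.range 15).all (fun m => Nat.blt (fivePts.getD m 31671) 31671 &&
      halfK (fivePts.getD m 31671) (fiveHalf.getD m ([], 0))) &&
    (List.range hSeq.length).all (fun m => Nat.blt (hPts.getD m 31671) 31671 &&
      halfK (hPts.getD m 31671) (hSeq.getD m ([], 0))) &&
    (List.range tSeq.length).all (fun m => Nat.blt (tPts.getD m 31671) 31671 &&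
      halfK (tPts.getD m 31671) (tSeq.getD m ([], 0))) &&
    Nat.blt vPt 31671 && Nat.blt wPt 31671

/-- The orbit is closed, with the stated action. -/
noncomputable def tabK : Bool :=
  (List.range 81).all fun i => (List.range 81).all fun j =>
    Nat.blt (tt i j) 81 && (Nat.beq (imgS [oh i] (op j)) (op (tt i j)) && Nat.beq (tt i j / 3) (op27 (i / 3) (j / 3)))

/-- The members of the orbit differ. -/
noncomputable def nodupK : Bool :=
  (List.range 81).all fun i => (List.range i).all fun j => !(Nat.beq (op i) (op j))

/-- The orbit is derived from its base. -/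
noncomputable def derK : Bool :=
  (List.range oDer.length).all (fun m =>
    let d := oDer.getD m (0, 0, 0)
    let seen := base4 ++ (oDer.take m).map (fun x => x.1)
    seen.contains d.2.1 && (seen.contains d.2.2 && Nat.beq (tt d.2.1 d.2.2) d.1)) &&
  (List.range 81).all fun i => (base4 ++ oDer.map (fun x => x.1)).contains i

/-- The points of the generators are derived from the six. -/
noncomputable def closK : Bool :=
  (List.range 6).all (fun i => Nat.beq (closPts.getD i 31671) (six.getD i 31671)) &&
    (List.range 58).all (fun m =>
      let d := closDer.getD m (64, 64)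
      Nat.blt d.1 (6 + m) && (Nat.blt d.2 (6 + m) &&
        Nat.beq (imgS [closHalf.getD d.1 ([], 0)] (closPts.getD d.2 31671)) (closPts.getD (6 + m) 31671))) &&
    (List.range 10).all fun x => Nat.blt (genIx.getD x 64) 64 &&
      Nat.beq (closPts.getD (genIx.getD x 64) 31671) (CosetCert.Fi23P.Two.genPts.getD x 31671)

/-- The test points are derived from the first five. -/
noncomputable def fiveK : Bool :=
  (List.range 5).all (fun i => Nat.beq (fivePts.getD i 31671) (six.getD i 31671)) &&
    (List.range 10).all (fun m =>
      let d := fiveDer.getD m (15, 15)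
      Nat.blt d.1 (5 + m) && (Nat.blt d.2 (5 + m) &&
        Nat.beq (imgS [fiveHalf.getD d.1 ([], 0)] (fivePts.getD d.2 31671)) (fivePts.getD (5 + m) 31671))) &&
    testIx.all fun t => Nat.blt t 15

/-- The signatures of the two points, and the tests separating the second. -/
noncomputable def sigK : Bool :=
  vSig.all (fun a => Nat.blt a 81 && Nat.beq (imgS [oh a] vPt) vPt) &&
    wSig.all (fun a => Nat.blt a 81 && Nat.beq (imgS [oh a] wPt) wPt) &&
    wPool.all fun u => Nat.beq u wPt || testIx.any fun t =>
      !((Nat.beq (imgS [fiveHalf.getD t ([], 0)] u) u) == (Nat.beq (imgS [fiveHalf.getD t ([], 0)] wPt) wPt))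

/-- A point outside the pool of the first test point differs in signature. -/
noncomputable def scanV (s n : ℕ) : Bool :=
  (List.range n).all fun i =>
    vSig.any (fun a => !(Nat.beq (imgS [oh a] (s + i)) (s + i))) || vPool.contains (s + i)

/-- A point outside the pool of the second test point differs in signature. -/
noncomputable def scanW (s n : ℕ) : Bool :=
  (List.range n).all fun i =>
    wSig.any (fun a => !(Nat.beq (imgS [oh a] (s + i)) (s + i))) || wPool.contains (s + i)

/-- The chosen member of the orbit commuting with a point. -/
noncomputable def pick (u : ℕ) : ℕ :=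
  coverIx.getD (Nat.mod (Nat.shiftRight (coverPick.getD (Nat.div u 2000) 0) (Nat.mul 5 (Nat.mod u 2000))) 32) 81

/-- Every point outside the orbit commutes with a member of it. -/
noncomputable def scanC (s n : ℕ) : Bool :=
  (List.range n).all fun i =>
    (Nat.blt (pick (s + i)) 81 && Nat.beq (imgS [oh (pick (s + i))] (s + i)) (s + i)) || oPts.contains (s + i)

/-- The letters act on the orbit as stated. -/
noncomputable def permK : Bool :=
  (List.range 12).all fun l => (List.range 81).all fun j =>
    Nat.blt (lp l j) 81 && Nat.beq (imgS (mSeq l) (op j)) (op (lp l j))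

/-- The letters are words in the orbit or in listed transpositions. -/
noncomputable def lettersK : Bool :=
  (List.range 10).all (fun l => (yW.getD l []).all fun i => Nat.blt i 81) &&
    (zW.all fun w => w.all fun i => Nat.blt i 81) && crW.all fun w => w.all fun i => Nat.blt i 81

/-- The presentation of the normal subgroup. -/
noncomputable def rulesK : Bool :=
  (List.range 55).all (fun m => sameSix (mW (pcRules.getD m ([], [])).1) (mW (pcRules.getD m ([], [])).2)) &&
    (List.range 10).all (fun i =>
      let R := pcRules.getD i ([], [])
      R.1 == [i, i, i] && R.2.all fun l => Nat.blt i l && Nat.blt l 10) &&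
    (List.range 10).all fun j => (List.range j).all fun i =>
      let R := pcRules.getD (10 + j * (j - 1) / 2 + i) ([], [])
      R.1 == [j, i] && match R.2 with
        | [] => false
        | a :: r => Nat.beq a i && r.all fun l => Nat.blt i l && Nat.blt l 10

/-- The complement normalises the normal subgroup. -/
noncomputable def normK : Bool :=
  normW.all (fun x => x.2.2.all (fun l => Nat.blt l 10) && sameSix (mW [x.1, x.2.1]) (mW (x.2.2 ++ [x.1]))) &&
    (normW.map fun x => (x.1, x.2.1)) == [(10, 0), (10, 1), (10, 2), (11, 0), (11, 1), (11, 2)]

/-- The transposition at the base in the complement. -/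
noncomputable def dK : Bool :=
  dW.all (fun l => Nat.beq l 10 || Nat.beq l 11) && sameSix (mW dW) [oh 0]

/-- The elements fixing the orbit. -/
noncomputable def zK : Bool :=
  (List.range 27).all (fun m => sameSix (twH (zW.getD m [])) (mW (zWord m)) &&
    base4.all fun b => Nat.beq (twP (zW.getD m []) b) b) &&
  vPool.all fun u => (List.range 27).any fun m => Nat.beq (imgS (twH (zW.getD m [])) vPt) u

/-- The elements of the normal subgroup fixing the base point, modulo those fixing the orbit. -/
noncomputable def crK : Bool :=
  (List.range 27).all (fun c => Nat.blt (crIx.getD c 2187) 2187 &&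
    (sameSix (twH (crW.getD c [])) (mW (eWord (crIx.getD c 2187))) && Nat.beq (twP (crW.getD c []) 0) 0)) &&
  (List.range 27).all fun c => (List.range 27).any fun c' =>
    Nat.beq (twP (crW.getD c' []) 3) (3 + c % 3) &&
      (Nat.beq (twP (crW.getD c' []) 9) (9 + c / 3 % 3) && Nat.beq (twP (crW.getD c' []) 27) (27 + c / 9))

/-- The images of the base under the normal subgroup, packed. -/
noncomputable def code (e : ℕ) : ℕ :=
  let w := eWord e
  lw w 0 * 531441 + (lw w 3 * 6561 + (lw w 9 * 81 + lw w 27))

/-- A list increases strictly. -/
def incr : List ℕ → Bool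
  | [] => true
  | [_] => true
  | a :: b :: l => Nat.blt a b && incr (b :: l)

/-- The images of the base tell the elements apart. -/
noncomputable def distinctK : Bool :=
  Nat.beq sortIx.length 2187 && sortIx.all (fun e => Nat.blt e 2187) && incr (sortIx.map code)

/-- Only the listed elements fix the base point. -/
noncomputable def fixK : Bool :=
  (List.range 2187).all fun e => !(Nat.beq (lw (eWord e) 0) 0) || crIx.contains e

/-- The centres of the quotients. -/
noncomputable def centreK : Bool :=
  (List.range 2187).all (fun e => (Nat.beq (e % 729) 0) ==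
    (List.range 3).all fun i => sameBase (eWord e ++ [i]) (i :: eWord e)) &&
  (List.range 2187).all (fun e => (Nat.beq (e % 27) 0) ==
    (List.range 3).all fun i => (List.range 3).any fun k =>
      sameBase (eWord e ++ [i]) (List.replicate k 6 ++ i :: eWord e)) &&
  [1, 2].all fun k => (List.range 3).any fun i =>
    !(sameSix (mW (eWord (729 * k) ++ [i])) (mW (i :: eWord (729 * k))))

/-- The centraliser of the base transposition is special. -/
noncomputable def specialK : Bool :=
  (List.range 27).all (fun c => Nat.beq (crIx.getD c 1) 0 || (List.range 27).any fun c' =>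
    !(sameSix (twH (crW.getD c [] ++ crW.getD c' [])) (twH (crW.getD c' [] ++ crW.getD c [])))) &&
  (List.range 27).all (fun c => (List.range 27).all fun c' => base4.all fun b =>
    Nat.beq (twP (crW.getD c [] ++ crW.getD c' []) b) (twP (crW.getD c' [] ++ crW.getD c []) b)) &&
  (List.range 27).all (fun c => base4.all fun b =>
    Nat.beq (twP (crW.getD c [] ++ crW.getD c [] ++ crW.getD c []) b) b) &&
  (List.range 3).all fun i =>
    let p := commIx.getD i (27, 27)
    Nat.blt p.1 27 && (Nat.blt p.2 27 && sameSix (mW [7 + i])
      (twH ((crW.getD p.1 []).reverse ++ (crW.getD p.2 []).reverse ++ crW.getD p.1 [] ++ crW.getD p.2 [])))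

/-- The normal subgroup moves blocks by translations. -/
noncomputable def transK : Bool :=
  (List.range 10).all fun l => (List.range 81).all fun j =>
    Nat.beq (lp l j / 3) (add27 (j / 3) (lp l 0 / 3))

/-- The members allowed as images of the base member of a level. -/
def allowed (k i : ℕ) : Bool :=
  if k = 0 then true else Nat.ble (3 ^ k) i

/-- The generators of a level. -/
def levG : ℕ → List (List ℕ)
  | 0 => levG0
  | 1 => levG1
  | 2 => levG2
  | _ => levG3

/-- The search of a level. -/
def levT : ℕ → List (ℕ × ℕ × ℕ)
  | 0 => levT0
  | 1 => levT1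
  | 2 => levT2
  | _ => levT3

/-- The four levels. -/
noncomputable def levelK : Bool :=
  (List.range 4).all fun k =>
    let b := base4.getD k 0
    (levG k).all (fun w => w.all (fun l => Nat.blt l 12) && (List.range k).all fun m =>
      Nat.beq (lw w (base4.getD m 0)) (base4.getD m 0)) &&
    (List.range (levT k).length).all (fun n =>
      let t := (levT k).getD n (0, 0, 0)
      (b :: ((levT k).take n).map (fun x => x.1)).contains t.2.1 &&
        (Nat.blt t.2.2 (levG k).length && Nat.beq (lw ((levG k).getD t.2.2 []) t.2.1) t.1)) &&
    (List.range 81).all fun i => !(allowed k i) || (b :: (levT k).map (fun x => x.1)).contains i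

/-- The complement preserves a set that no other element of the centraliser of the base transposition does. -/
noncomputable def sepK : Bool :=
  xPts.all (fun x => Nat.blt x 31671 && (xPts.contains (imgS (mSeq 10) x) && xPts.contains (imgS (mSeq 11) x))) &&
    Nat.beq (crIx.getD 0 1) 0 &&
    (List.range 27).all fun c => (List.range 27).all fun m => (Nat.beq c 0 && Nat.beq m 0) ||
      !(xPts.contains (imgS (twH (crW.getD c [] ++ zW.getD m [])) (xPts.getD ((sepX.getD c []).getD m 0) 31671)))

end CfsgLib.Sporadic.Fi23Ten
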