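import Cfsg.Agent.Lib.Sporadic.FiTransfer23.Model
import Cfsg.Agent.Lib.Sporadic.Fi23Out.Inj
import Cfsg.Agent.Lib.Sporadic.FiTransfer.Fi23Ten.Defs

/-!
The transpositions of the points of Fi23 form the class of transpositions; products of transpositions given by
halves of words.
-/

set_option autoImplicit false
set_option maxRecDepth 100000

open Cfsg.Spor

namespace CfsgLib.Sporadic.Fi23Ten

open CosetCert CosetCert.Fi23Data CosetCert.Fi23P CosetCert.Fi23P.OutFi
open CosetCert.Fi23P.Two (el el_img dp dp_eq conj_dp comm_of_fix zz zz_comm)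

attribute [local irreducible] PTab.img Forest.cls

/-- The class of transpositions. -/
abbrev classTr23 : Set Fi23 := CfsgLib.Sporadic.FiTransfer23.classTr

theorem zz_eq_tr : zz = tr := by
  haveI := finite
  have hz : zz ∈ sub lH := Two.stab_le (by
    rw [OutFi.zz_eq_dp]
    have h := conj_dp (dp pt) pt
    rw [mul_inv_cancel_right] at h
    exact (dp_injective h).symm)
  have hk : (⟨zz, hz⟩ : sub lH) ∈ toFi22.ker := by
    rw [← center_eq, Subgroup.mem_center_iff]
    exact fun k => Subtype.ext (zz_comm k.2).eq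
  obtain ⟨a, -, hau⟩ := (Nat.card_eq_two_iff' (1 : toFi22.ker)).1 card_ker_toFi22
  have h1 := hau ⟨_, tr_mem_ker⟩ fun e => tr_ne_one (congrArg (fun k : toFi22.ker => ((k : sub lH) : Fi23)) e)
  have h2 := hau ⟨_, hk⟩ fun e => (OutFi.zz_eq_dp ▸ dp_ne_one pt : zz ≠ 1)
    (congrArg (fun k : toFi22.ker => ((k : sub lH) : Fi23)) e)
  exact congrArg (fun k : toFi22.ker => ((k : sub lH) : Fi23)) (h2.trans h1.symm)

theorem mem_classTr23 {x : Fi23} : x ∈ classTr23 ↔ ∃ p, dp p = x := by
  refine ⟨fun h => ?_, fun ⟨p, hp⟩ => ?_⟩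
  · obtain ⟨g, rfl⟩ := isConj_iff.1 h
    exact ⟨hom g pt, by rw [dp_eq rfl, zz_eq_tr]⟩
  · obtain ⟨g, hg⟩ := transitive p
    exact hp ▸ isConj_iff.2 ⟨g, by rw [dp_eq hg, zz_eq_tr]⟩

theorem dp_mem_classTr23 (p : Fin table.N) : dp p ∈ classTr23 := mem_classTr23.2 ⟨p, rfl⟩

theorem dp_inv (p : Fin table.N) : (dp p)⁻¹ = dp p := inv_eq_of_mul_eq_one_right (dp_sq p)

theorem dp_self (p : Fin table.N) : hom (dp p) p = p := by
  have h := conj_dp (dp p) p
  rw [mul_inv_cancel_right] at h
  exact (dp_injective h).symm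

theorem fix_of_comm {g : Fi23} {p : Fin table.N} (h : Commute g (dp p)) : hom g p = p :=
  dp_injective (by rw [← conj_dp, h.eq, mul_inv_cancel_right])

theorem fix_symm {a b : Fin table.N} (h : hom (dp a) b = b) : hom (dp b) a = a :=
  fix_of_comm (comm_of_fix h).symm

theorem three_or (a b : Fin table.N) : (dp a * dp b) ^ 2 = 1 ∨ (dp a * dp b) ^ 3 = 1 := by
  obtain ⟨g, hg⟩ := transitive a
  obtain ⟨f, hf⟩ := transitive b
  have e : dp a * dp b = g * (tr * ((g⁻¹ * f) * tr * (g⁻¹ * f)⁻¹)) * g⁻¹ := by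
    rw [dp_eq hg, dp_eq hf, zz_eq_tr]; group
  rcases three_transp (g⁻¹ * f) with h | h
  · left; rw [e, conj_pow, h, mul_one, mul_inv_cancel]
  · right; rw [e, conj_pow, h, mul_one, mul_inv_cancel]

/-- The third point on the line through two points that do not commute. -/
theorem braid_dp {a b : Fin table.N} (h : hom (dp a) b ≠ b) : hom (dp b) (hom (dp a) b) = a := by
  have ha := dp_sq a
  have hb := dp_sq b
  have key := conj_dp (dp b * dp a) b
  rw [mul_inv_rev, dp_inv, dp_inv, map_mul, Equiv.Perm.mul_apply] at key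
  rcases three_or a b with e | e
  · refine absurd (fix_of_comm ?_) h
    rw [pow_two, mul_eq_one_iff_eq_inv, mul_inv_rev, dp_inv, dp_inv] at e
    exact e
  · refine dp_injective ?_
    rw [← key]
    have h2 : dp a * dp b * dp a = dp b * dp a * dp b := by
      have e' : (dp a * dp b * dp a) * (dp b * dp a * dp b) = 1 := by
        rw [← e, pow_succ, pow_two]; simp only [mul_assoc]
      rw [mul_eq_one_iff_eq_inv, mul_inv_rev, mul_inv_rev, dp_inv, dp_inv] at e'
      rw [e', mul_assoc]
    calc dp b * dp a * dp b * (dp a * dp b) = dp a * dp b * dp a * (dp a * dp b) := by rw [h2]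
      _ = dp a * (dp b * (dp a * dp a) * dp b) := by simp only [mul_assoc]
      _ = dp a := by rw [ha, mul_one, hb, mul_one]

theorem fix_step {g : Fi23} {a b : Fin table.N} (ha : hom g a = a) (hb : hom g b = b) :
    hom g (hom (dp a) b) = hom (dp a) b := by
  rw [← Equiv.Perm.mul_apply, ← map_mul, (comm_of_fix ha).eq, map_mul, Equiv.Perm.mul_apply, hb]

/-- A point given by its number. -/
noncomputable def mkPt (n : ℕ) : Fin table.N := if h : n < table.N then ⟨n, h⟩ else pt

theorem mkPt_val {n : ℕ} (h : n < 31671) : (mkPt n : ℕ) = n := by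
  rw [mkPt, dif_pos (show n < table.N from h)]

theorem mkPt_self (u : Fin table.N) : mkPt u.val = u := by rw [mkPt, dif_pos u.2]

/-- The words of the halves are words in the letters. -/
def Good (hs : List (List ℕ × ℕ)) : Prop := ∀ h ∈ hs, ∀ x ∈ fullWord h, x < 10

/-- The product of transpositions given by halves. -/
noncomputable def sEl (hs : List (List ℕ × ℕ)) : Fi23 := (hs.map fun h => el (fullWord h)).prod

theorem sEl_append (A B : List (List ℕ × ℕ)) : sEl (A ++ B) = sEl A * sEl B := by
  simp [sEl]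

theorem sEl_nil : sEl [] = 1 := rfl

theorem Good.append {A B : List (List ℕ × ℕ)} (hA : Good A) (hB : Good B) : Good (A ++ B) :=
  fun h hh => (List.mem_append.1 hh).elim (hA h) (hB h)

theorem hom_sEl {hs : List (List ℕ × ℕ)} (hg : Good hs) (u : Fin table.N) :
    ((hom (sEl hs) u : Fin table.N) : ℕ) = imgS hs u := by
  induction hs with
  | nil => rw [sEl_nil, map_one]; rfl
  | cons h l ih =>
    have hl : ∀ x ∈ fullWord h, x < 10 := hg h List.mem_cons_self
    rw [show sEl (h :: l) = el (fullWord h) * sEl l from List.prod_cons, map_mul, Equiv.Perm.mul_apply,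
      el_img hl]
    show _ = PTab.runL (rowsOf (fullWord h)) (imgS l u)
    have h10 : (fullWord h).all (fun x => Nat.blt x 10) = true :=
      List.all_eq_true.2 fun x hx => Nat.blt_eq.mpr (hl x hx)
    rw [← ih fun k hk => hg k (List.mem_cons_of_mem _ hk), (Fi23Data.imgW_fast _ h10 _ (Fin.is_lt _)).1]
    rfl

theorem hom_sEl_eq {hs : List (List ℕ × ℕ)} (hg : Good hs) {u v : Fin table.N} (h : imgS hs u = (v : ℕ)) :
    hom (sEl hs) u = v := Fin.ext ((hom_sEl hg u).trans h)

end CfsgLib.Sporadic.Fi23Ten
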