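import Cfsg.Agent.Lib.Sporadic.FiTransfer.Fi23Ten.Defs

/-!
Kernel checks for the subgroup 3^10.GL3(3) of Fi23.
-/

set_option autoImplicit false
set_option maxRecDepth 100000
set_option maxHeartbeats 0

namespace CfsgLib.Sporadic.Fi23Ten

theorem scanV0 : scanV 0 8000 = true := by decide +kernel
theorem scanV1 : scanV 8000 8000 = true := by decide +kernel
theorem scanV2 : scanV 16000 8000 = true := by decide +kernel
theorem scanV3 : scanV 24000 7671 = true := by decide +kernel

end CfsgLib.Sporadic.Fi23Ten
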