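import Cfsg.Agent.Lib.Sporadic.FiTransfer.Fi23Ten.Defs

/-!
Kernel checks for the subgroup 3^10.GL3(3) of Fi23.
-/

set_option autoImplicit false
set_option maxRecDepth 100000
set_option maxHeartbeats 0

namespace CfsgLib.Sporadic.Fi23Ten

theorem scanW0 : scanW 0 8000 = true := by decide +kernel
theorem scanW1 : scanW 8000 8000 = true := by decide +kernel
theorem scanW2 : scanW 16000 8000 = true := by decide +kernel
theorem scanW3 : scanW 24000 7671 = true := by decide +kernel

end CfsgLib.Sporadic.Fi23Ten
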