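import Cfsg.Agent.Lib.Sporadic.FiTransfer.Fi23Ten.Defs

/-!
Kernel checks for the subgroup 3^10.GL3(3) of Fi23.
-/

set_option autoImplicit false
set_option maxRecDepth 100000
set_option maxHeartbeats 0

namespace CfsgLib.Sporadic.Fi23Ten

theorem halfs_ok : halfsK = true := by decide +kernel
theorem nodup_ok : nodupK = true := by decide +kernel
theorem der_ok : derK = true := by decide +kernel
theorem clos_ok : closK = true := by decide +kernel
theorem five_ok : fiveK = true := by decide +kernel
theorem sig_ok : sigK = true := by decide +kernel
theorem letters_ok : lettersK = true := by decide +kernel
theorem rules_ok : rulesK = true := by decide +kernel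
theorem norm_ok : normK = true := by decide +kernel
theorem d_ok : dK = true := by decide +kernel
theorem z_ok : zK = true := by decide +kernel
theorem cr_ok : crK = true := by decide +kernel
theorem trans_ok : transK = true := by decide +kernel
theorem level_ok : levelK = true := by decide +kernel

end CfsgLib.Sporadic.Fi23Ten
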