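import Cfsg.Agent.Lib.Sporadic.FiTransfer.Fi23Ten.Base
import Cfsg.Agent.Lib.Sporadic.FiTransfer.Fi23Ten.CheckSmall
import Cfsg.Agent.Lib.Sporadic.FiTransfer.Fi23Ten.CheckTab
import Cfsg.Agent.Lib.Sporadic.FiTransfer.Fi23Ten.CheckScanV
import Cfsg.Agent.Lib.Sporadic.FiTransfer.Fi23Ten.CheckScanW

/-!
An element of Fi23 is determined by the images of six points; the elements fixing each of the 81 points.
-/

set_option autoImplicit false
set_option maxRecDepth 100000

open Cfsg.Spor

namespace CfsgLib.Sporadic.Fi23Ten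

open CosetCert CosetCert.Fi23Data CosetCert.Fi23P CosetCert.Fi23P.OutFi
open CosetCert.Fi23P.Two (el el_img dp dp_eq conj_dp comm_of_fix gpt gpt_val genPts eq_one_of_fix)

attribute [local irreducible] PTab.img Forest.cls imgS scanV scanW

/-- A member of the orbit as a point. -/
noncomputable def pP (i : ℕ) : Fin table.N := mkPt (op i)

theorem oh_spec {i : ℕ} (hi : i < 81) : op i < 31671 ∧ halfK (op i) (oh i) = true := by
  have h := halfs_ok
  simp only [halfsK, Bool.and_eq_true, List.all_eq_true, List.mem_range, Nat.blt_eq] at h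
  exact h.1.1.1.1.1.1 i hi

theorem clos_half {m : ℕ} (hm : m < 64) :
    closPts.getD m 31671 < 31671 ∧ halfK (closPts.getD m 31671) (closHalf.getD m ([], 0)) = true := by
  have h := halfs_ok
  simp only [halfsK, Bool.and_eq_true, List.all_eq_true, List.mem_range, Nat.blt_eq] at h
  exact h.1.1.1.1.1.2 m hm

theorem five_half {m : ℕ} (hm : m < 15) :
    fivePts.getD m 31671 < 31671 ∧ halfK (fivePts.getD m 31671) (fiveHalf.getD m ([], 0)) = true := by
  have h := halfs_ok
  simp only [halfsK, Bool.and_eq_true, List.all_eq_true, List.mem_range, Nat.blt_eq] at h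
  exact h.1.1.1.1.2 m hm

theorem vPt_lt : vPt < 31671 := by
  have h := halfs_ok
  simp only [halfsK, Bool.and_eq_true, Nat.blt_eq] at h
  exact h.1.2

theorem wPt_lt : wPt < 31671 := by
  have h := halfs_ok
  simp only [halfsK, Bool.and_eq_true, Nat.blt_eq] at h
  exact h.2

theorem pP_val {i : ℕ} (hi : i < 81) : (pP i : ℕ) = op i := mkPt_val (oh_spec hi).1

theorem pP_inj {i j : ℕ} (hi : i < 81) (hj : j < 81) (h : pP i = pP j) : i = j := by
  have he : op i = op j := by rw [← pP_val hi, ← pP_val hj, h]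
  have hk := nodup_ok
  simp only [nodupK, List.all_eq_true, List.mem_range, Bool.not_eq_true'] at hk
  rcases Nat.lt_trichotomy i j with hl | hl | hl
  · exact absurd (hk j hj i hl) (by rw [he, Nat.beq_eq.mpr rfl]; decide)
  · exact hl
  · exact absurd (hk i hi j hl) (by rw [he, Nat.beq_eq.mpr rfl]; decide)

theorem sEl_single (h : List ℕ × ℕ) : sEl [h] = el (fullWord h) := mul_one _

theorem dp_of_pts {n : ℕ} {h : List ℕ × ℕ} (hn : n < 31671) (hK : halfK n h = true) :
    Good [h] ∧ sEl [h] = dp (mkPt n) := by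
  refine ⟨fun k hk x hx => ?_, ?_⟩
  · rw [List.mem_singleton.1 hk] at hx
    exact fullWord_lt hK x hx
  · rw [sEl_single, dp_of_half (p := mkPt n) (by rw [mkPt_val hn]; exact hK)]

theorem oh_dp {i : ℕ} (hi : i < 81) : Good [oh i] ∧ sEl [oh i] = dp (pP i) :=
  dp_of_pts (oh_spec hi).1 (oh_spec hi).2

theorem good_twH : ∀ {w : List ℕ}, (∀ i ∈ w, i < 81) → Good (twH w) := by
  intro w hw h hh x hx
  obtain ⟨i, hi, rfl⟩ := List.mem_map.1 hh
  exact (oh_dp (hw i hi)).1 (oh i) List.mem_cons_self x hx

/-- The product of members of the orbit. -/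
noncomputable def tEl (w : List ℕ) : Fi23 := (w.map fun i => dp (pP i)).prod

theorem sEl_twH {w : List ℕ} (hw : ∀ i ∈ w, i < 81) : sEl (twH w) = tEl w := by
  induction w with
  | nil => rfl
  | cons a l ih =>
    rw [show twH (a :: l) = [oh a] ++ twH l from rfl, sEl_append, ih fun i hi => hw i (List.mem_cons_of_mem _ hi),
      (oh_dp (hw a List.mem_cons_self)).2]
    rfl

theorem good_mSeq (l : ℕ) : Good (mSeq l) := by
  unfold mSeq
  split_ifs with h1 h2 h3
  · refine good_twH ?_
    have h := letters_ok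
    simp only [lettersK, Bool.and_eq_true, List.all_eq_true, List.mem_range, Nat.blt_eq] at h
    exact h.1.1 l h1
  · intro k hk x hx
    obtain ⟨m, hm, rfl⟩ := List.mem_iff_getElem.1 hk
    have h := halfs_ok
    simp only [halfsK, Bool.and_eq_true, List.all_eq_true, List.mem_range] at h
    have hK := (h.1.1.1.2 m hm).2
    rw [List.getD_eq_getElem _ _ hm] at hK
    exact fullWord_lt hK x hx
  · intro k hk x hx
    obtain ⟨m, hm, rfl⟩ := List.mem_iff_getElem.1 hk
    have h := halfs_ok
    simp only [halfsK, Bool.and_eq_true, List.all_eq_true, List.mem_range] at h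
    have hK := (h.1.1.2 m hm).2
    rw [List.getD_eq_getElem _ _ hm] at hK
    exact fullWord_lt hK x hx
  · exact fun k hk => absurd hk List.not_mem_nil

theorem good_mW (w : List ℕ) : Good (mW w) := by
  intro k hk
  obtain ⟨l, -, hl⟩ := List.mem_flatMap.1 hk
  exact good_mSeq l k hl

/-- The element of a word in the letters. -/
noncomputable def mEl (w : List ℕ) : Fi23 := sEl (mW w)

theorem mEl_nil : mEl [] = 1 := rfl

theorem mEl_append (A B : List ℕ) : mEl (A ++ B) = mEl A * mEl B := by
  rw [mEl, mW, List.flatMap_append, sEl_append]; rfl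

theorem mEl_cons (a : ℕ) (l : List ℕ) : mEl (a :: l) = mEl [a] * mEl l := mEl_append [a] l

/-! ### The orbit -/

theorem tab_spec {i j : ℕ} (hi : i < 81) (hj : j < 81) :
    tt i j < 81 ∧ hom (dp (pP i)) (pP j) = pP (tt i j) ∧ tt i j / 3 = op27 (i / 3) (j / 3) := by
  have h := tab_ok
  simp only [tabK, Bool.and_eq_true, List.all_eq_true, List.mem_range, Nat.blt_eq, Nat.beq_eq] at h
  obtain ⟨h1, h2, h3⟩ := h i hi j hj
  refine ⟨h1, ?_, h3⟩
  rw [← (oh_dp hi).2]
  exact hom_sEl_eq (oh_dp hi).1 (by rw [pP_val hj, pP_val h1]; exact h2)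

theorem lp_spec {l j : ℕ} (hl : l < 12) (hj : j < 81) :
    lp l j < 81 ∧ hom (mEl [l]) (pP j) = pP (lp l j) := by
  have h := perm_ok
  simp only [permK, Bool.and_eq_true, List.all_eq_true, List.mem_range, Nat.blt_eq, Nat.beq_eq] at h
  obtain ⟨h1, h2⟩ := h l hl j hj
  refine ⟨h1, hom_sEl_eq (good_mW _) ?_⟩
  rw [pP_val hj, pP_val h1, show mW [l] = mSeq l from List.append_nil _]
  exact h2

theorem lw_spec {w : List ℕ} (hw : ∀ l ∈ w, l < 12) {j : ℕ} (hj : j < 81) :
    lw w j < 81 ∧ hom (mEl w) (pP j) = pP (lw w j) := by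
  induction w with
  | nil => exact ⟨hj, by rw [mEl_nil, map_one]; rfl⟩
  | cons a l ih =>
    obtain ⟨h1, h2⟩ := ih fun i hi => hw i (List.mem_cons_of_mem _ hi)
    obtain ⟨h3, h4⟩ := lp_spec (hw a List.mem_cons_self) h1
    exact ⟨h3, by rw [mEl_cons, map_mul, Equiv.Perm.mul_apply, h2, h4]; rfl⟩

theorem twP_spec {w : List ℕ} (hw : ∀ i ∈ w, i < 81) {j : ℕ} (hj : j < 81) :
    twP w j < 81 ∧ hom (tEl w) (pP j) = pP (twP w j) := by
  induction w with
  | nil => exact ⟨hj, by rw [show tEl [] = 1 from rfl, map_one]; rfl⟩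
  | cons a l ih =>
    obtain ⟨h1, h2⟩ := ih fun i hi => hw i (List.mem_cons_of_mem _ hi)
    obtain ⟨h3, h4, -⟩ := tab_spec (hw a List.mem_cons_self) h1
    refine ⟨h3, ?_⟩
    rw [show tEl (a :: l) = dp (pP a) * tEl l from List.prod_cons, map_mul, Equiv.Perm.mul_apply, h2, h4]
    rfl

/-- An element fixing the base fixes the orbit. -/
theorem fix_orbit {g : Fi23} (hb : ∀ b ∈ base4, hom g (pP b) = pP b) {i : ℕ} (hi : i < 81) :
    hom g (pP i) = pP i := by
  have h := der_ok
  simp only [derK, Bool.and_eq_true, List.all_eq_true, List.mem_range, List.contains_iff_mem,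
    Nat.beq_eq] at h
  obtain ⟨h1, h2⟩ := h
  have key : ∀ m, m ≤ oDer.length → ∀ a ∈ base4 ++ (oDer.take m).map (fun x => x.1),
      a < 81 ∧ hom g (pP a) = pP a := by
    intro m
    induction m with
    | zero =>
      intro _ a ha
      simp only [List.take_zero, List.map_nil, List.append_nil] at ha
      exact ⟨(show ∀ b ∈ base4, b < 81 by decide) a ha, hb a ha⟩
    | succ m ih =>
      intro hm a ha
      rw [List.take_add_one, List.map_append, ← List.append_assoc, List.mem_append] at ha
      rcases ha with ha | ha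
      · exact ih (by omega) a ha
      · obtain ⟨e, he, rfl⟩ := List.mem_map.1 ha
        rw [List.getElem?_eq_getElem (show m < oDer.length by omega), Option.toList_some,
          List.mem_singleton] at he
        obtain ⟨hd1, hd2, hd3⟩ := h1 m (by omega)
        rw [List.getD_eq_getElem _ _ (show m < oDer.length by omega)] at hd1 hd2 hd3
        subst he
        obtain ⟨l1, f1⟩ := ih (by omega) _ hd1
        obtain ⟨l2, f2⟩ := ih (by omega) _ hd2
        obtain ⟨t1, t2, -⟩ := tab_spec l1 l2
        rw [← hd3]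
        exact ⟨t1, by rw [← t2]; exact fix_step f1 f2⟩
  exact (key oDer.length le_rfl i (by rw [List.take_length]; exact h2 i hi)).2

/-- An element fixing six points is trivial. -/
theorem eq_one_six {g : Fi23} (hg : ∀ u ∈ six, hom g (mkPt u) = mkPt u) : g = 1 := by
  have h := clos_ok
  simp only [closK, Bool.and_eq_true, List.all_eq_true, List.mem_range, Nat.blt_eq, Nat.beq_eq] at h
  obtain ⟨⟨h1, h2⟩, h3⟩ := h
  have key : ∀ m, m < 64 → hom g (mkPt (closPts.getD m 31671)) = mkPt (closPts.getD m 31671) := by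
    intro m
    induction m using Nat.strong_induction_on with
    | _ m ih =>
      intro hm
      rcases Nat.lt_or_ge m 6 with hl | hl
      · rw [h1 m hl]
        refine hg _ ?_
        rw [List.getD_eq_getElem _ _ (show m < six.length from hl)]
        exact List.getElem_mem _
      · obtain ⟨d1, d2, d3⟩ := h2 (m - 6) (by omega)
        rw [show 6 + (m - 6) = m by omega] at d1 d2 d3
        generalize closDer.getD (m - 6) (64, 64) = d at d1 d2 d3
        obtain ⟨hlt1, hK1⟩ := clos_half (show d.1 < 64 by omega)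
        obtain ⟨hgood, hdp⟩ := dp_of_pts hlt1 hK1
        have e : hom (dp (mkPt (closPts.getD d.1 31671))) (mkPt (closPts.getD d.2 31671))
            = mkPt (closPts.getD m 31671) := by
          rw [← hdp]
          exact hom_sEl_eq hgood (by
            rw [mkPt_val (clos_half (show d.2 < 64 by omega)).1, mkPt_val (clos_half hm).1]; exact d3)
        rw [← e]
        exact fix_step (ih d.1 d1 (by omega)) (ih d.2 d2 (by omega))
  refine eq_one_of_fix fun x hx => ?_
  obtain ⟨hx1, hx2⟩ := h3 x hx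
  have e : gpt x = mkPt (closPts.getD (genIx.getD x 64) 31671) := Fin.ext (by
    rw [gpt_val hx, mkPt_val (clos_half hx1).1, hx2, List.getD_eq_getElem _ _ (show x < genPts.length from hx),
      List.getD_eq_getElem _ _ (show x < genPts.length from hx)])
  rw [e]
  exact key _ hx1

theorem six_lt : ∀ u ∈ six, u < 31671 := by
  intro u hu
  simp only [six, List.mem_cons, List.not_mem_nil, or_false] at hu
  rcases hu with rfl | rfl | rfl | rfl | rfl | rfl
  all_goals first | exact (oh_spec (by norm_num)).1 | exact vPt_lt | exact wPt_lt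

/-- Products agreeing at six points are equal. -/
theorem eq_of_sameSix {A B : List (List ℕ × ℕ)} (hA : Good A) (hB : Good B) (h : sameSix A B = true) :
    sEl A = sEl B := by
  refine (inv_mul_eq_one.1 (eq_one_six fun u hu => ?_)).symm
  rw [map_mul, Equiv.Perm.mul_apply, map_inv, Equiv.Perm.inv_def, Equiv.symm_apply_eq]
  refine Fin.ext ?_
  rw [hom_sEl hA, hom_sEl hB, mkPt_val (six_lt u hu)]
  simp only [sameSix, List.all_eq_true, Nat.beq_eq] at h
  exact h u hu

theorem mEl_eq_of_sameSix {A B : List ℕ} (h : sameSix (mW A) (mW B) = true) : mEl A = mEl B :=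
  eq_of_sameSix (good_mW A) (good_mW B) h

theorem tEl_eq_mEl {A B : List ℕ} (hA : ∀ i ∈ A, i < 81) (h : sameSix (twH A) (mW B) = true) :
    tEl A = mEl B := by
  rw [← sEl_twH hA]
  exact eq_of_sameSix (good_twH hA) (good_mW B) h

/-! ### The elements fixing the orbit -/

theorem bool_beq_comm {g : Fi23} {a u : Fin table.N} (ha : hom g a = a) :
    hom (dp a) (hom g u) = hom g u ↔ hom (dp a) u = u := by
  have e : hom (dp a) (hom g u) = hom g (hom (dp a) u) := by
    rw [← Equiv.Perm.mul_apply, ← map_mul, ← (comm_of_fix ha).eq, map_mul, Equiv.Perm.mul_apply]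
  rw [e]
  exact (hom g).injective.eq_iff

/-- An element fixing the base and the first test point is trivial. -/
theorem eq_one_five {g : Fi23} (hb : ∀ b ∈ base4, hom g (pP b) = pP b) (hv : hom g (mkPt vPt) = mkPt vPt) :
    g = 1 := by
  have hs := sig_ok
  simp only [sigK, Bool.and_eq_true, List.all_eq_true, Nat.blt_eq, Nat.beq_eq, Bool.or_eq_true,
    List.any_eq_true, Bool.not_eq_true', beq_eq_false_iff_ne] at hs
  obtain ⟨⟨-, hwS⟩, hwP⟩ := hs
  set u := hom g (mkPt wPt) with hu
  have hsig : ∀ a ∈ wSig, imgS [oh a] u = u := by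
    intro a ha
    obtain ⟨hlt, hfix⟩ := hwS a ha
    obtain ⟨hgood, hdp⟩ := oh_dp hlt
    have h1 : hom (dp (pP a)) (mkPt wPt) = mkPt wPt := by
      rw [← hdp]; exact hom_sEl_eq hgood (by rw [mkPt_val wPt_lt]; exact hfix)
    rw [← hom_sEl hgood, hdp, (bool_beq_comm (fix_orbit hb hlt)).2 h1]
  have hpool : (u : ℕ) ∈ wPool := by
    have key : ∀ {s n : ℕ}, scanW s n = true → s ≤ u.1 → u.1 < s + n → (u : ℕ) ∈ wPool := by
      intro s n hK h1 h2
      unfold scanW at hK
      have h3 := List.all_eq_true.1 hK (u.1 - s) (List.mem_range.2 (by omega))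
      rw [show s + (u.1 - s) = u.1 by omega, Bool.or_eq_true] at h3
      rcases h3 with h3 | h3
      · obtain ⟨a, ha, hne⟩ := List.any_eq_true.1 h3
        rw [Nat.beq_eq.mpr (hsig a ha)] at hne
        exact absurd hne (by decide)
      · exact List.contains_iff_mem.1 h3
    have hN : u.1 < 31671 := u.2
    rcases lt_or_ge u.1 8000 with h1 | h1
    · exact key scanW0 (Nat.zero_le _) (by omega)
    rcases lt_or_ge u.1 16000 with h2 | h2
    · exact key scanW1 h1 (by omega)
    rcases lt_or_ge u.1 24000 with h3 | h3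
    · exact key scanW2 h2 (by omega)
    exact key scanW3 h3 (by omega)
  have h5 := five_ok
  simp only [fiveK, Bool.and_eq_true, List.all_eq_true, List.mem_range, Nat.blt_eq, Nat.beq_eq] at h5
  obtain ⟨⟨f1, f2⟩, f3⟩ := h5
  have key : ∀ m, m < 15 → hom g (mkPt (fivePts.getD m 31671)) = mkPt (fivePts.getD m 31671) := by
    intro m
    induction m using Nat.strong_induction_on with
    | _ m ih =>
      intro hm
      rcases Nat.lt_or_ge m 5 with hl | hl
      · rw [f1 m hl]
        have : six.getD m 31671 ∈ [op 0, op 3, op 9, op 27, vPt] :=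
          (show ∀ k < 5, six.getD k 31671 ∈ [op 0, op 3, op 9, op 27, vPt] by decide) m hl
        simp only [List.mem_cons, List.not_mem_nil, or_false] at this
        rcases this with e | e | e | e | e <;> rw [e]
        exacts [hb 0 (by decide), hb 3 (by decide), hb 9 (by decide), hb 27 (by decide), hv]
      · obtain ⟨d1, d2, d3⟩ := f2 (m - 5) (by omega)
        rw [show 5 + (m - 5) = m by omega] at d1 d2 d3
        generalize fiveDer.getD (m - 5) (15, 15) = d at d1 d2 d3
        obtain ⟨hlt1, hK1⟩ := five_half (show d.1 < 15 by omega)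
        obtain ⟨hgood, hdp⟩ := dp_of_pts hlt1 hK1
        have e : hom (dp (mkPt (fivePts.getD d.1 31671))) (mkPt (fivePts.getD d.2 31671))
            = mkPt (fivePts.getD m 31671) := by
          rw [← hdp]
          exact hom_sEl_eq hgood (by
            rw [mkPt_val (five_half (show d.2 < 15 by omega)).1, mkPt_val (five_half hm).1]; exact d3)
        rw [← e]
        exact fix_step (ih d.1 d1 (by omega)) (ih d.2 d2 (by omega))
  have hw : u = mkPt wPt := by
    rcases hwP _ hpool with e | ⟨t, ht, hne⟩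
    · exact Fin.ext (by rw [mkPt_val wPt_lt]; exact e)
    · exfalso
      obtain ⟨hlt, hK⟩ := five_half (f3 t ht)
      obtain ⟨hgood, hdp⟩ := dp_of_pts hlt hK
      have hiff := bool_beq_comm (u := mkPt wPt) (key t (f3 t ht))
      rw [← hdp, Fin.ext_iff, Fin.ext_iff, hom_sEl hgood, hom_sEl hgood, mkPt_val wPt_lt] at hiff
      apply hne
      rw [Bool.eq_iff_iff, Nat.beq_eq, Nat.beq_eq]
      exact hiff
  refine eq_one_six fun x hx => ?_
  simp only [six, List.mem_cons, List.not_mem_nil, or_false] at hx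
  rcases hx with e | e | e | e | e | e <;> rw [e]
  exacts [hb 0 (by decide), hb 3 (by decide), hb 9 (by decide), hb 27 (by decide), hv, hw]

theorem zW_lt {m : ℕ} : ∀ i ∈ zW.getD m [], i < 81 := by
  intro i hi
  have h := letters_ok
  simp only [lettersK, Bool.and_eq_true, List.all_eq_true, Nat.blt_eq] at h
  rcases Nat.lt_or_ge m zW.length with hl | hl
  · rw [List.getD_eq_getElem _ _ hl] at hi
    exact h.1.2 _ (List.getElem_mem hl) i hi
  · rw [List.getD_eq_default _ _ hl] at hi
    exact absurd hi List.not_mem_nil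

/-- An element fixing the orbit. -/
noncomputable def zEl (m : ℕ) : Fi23 := tEl (zW.getD m [])

theorem zEl_spec {m : ℕ} (hm : m < 27) :
    zEl m = mEl (zWord m) ∧ ∀ b ∈ base4, hom (zEl m) (pP b) = pP b := by
  have h := z_ok
  simp only [zK, Bool.and_eq_true, List.all_eq_true, List.mem_range, Nat.beq_eq] at h
  obtain ⟨h1, h2⟩ := h.1 m hm
  refine ⟨tEl_eq_mEl zW_lt h1, fun b hb => ?_⟩
  have hb' : b < 81 := (show ∀ b ∈ base4, b < 81 by decide) b hb
  rw [zEl, (twP_spec zW_lt hb').2, h2 b hb]

/-- The elements fixing the base. -/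
theorem fix_base_iff {g : Fi23} :
    (∀ b ∈ base4, hom g (pP b) = pP b) ↔ ∃ m < 27, g = mEl (zWord m) := by
  refine ⟨fun hb => ?_, fun ⟨m, hm, e⟩ => by rw [e, ← (zEl_spec hm).1]; exact (zEl_spec hm).2⟩
  set u := hom g (mkPt vPt) with hu
  have hs := sig_ok
  simp only [sigK, Bool.and_eq_true, List.all_eq_true, Nat.blt_eq, Nat.beq_eq] at hs
  have hsig : ∀ a ∈ vSig, imgS [oh a] u = u := by
    intro a ha
    obtain ⟨hlt, hfix⟩ := hs.1.1 a ha
    obtain ⟨hgood, hdp⟩ := oh_dp hlt
    have h1 : hom (dp (pP a)) (mkPt vPt) = mkPt vPt := by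
      rw [← hdp]; exact hom_sEl_eq hgood (by rw [mkPt_val vPt_lt]; exact hfix)
    rw [← hom_sEl hgood, hdp, (bool_beq_comm (fix_orbit hb hlt)).2 h1]
  have key : ∀ {s n : ℕ}, scanV s n = true → s ≤ u.1 → u.1 < s + n → (u : ℕ) ∈ vPool := by
    intro s n hK h1 h2
    unfold scanV at hK
    have h3 := List.all_eq_true.1 hK (u.1 - s) (List.mem_range.2 (by omega))
    rw [show s + (u.1 - s) = u.1 by omega, Bool.or_eq_true] at h3
    rcases h3 with h3 | h3
    · obtain ⟨a, ha, hne⟩ := List.any_eq_true.1 h3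
      rw [Nat.beq_eq.mpr (hsig a ha)] at hne
      exact absurd hne (by decide)
    · exact List.contains_iff_mem.1 h3
  have hpool : (u : ℕ) ∈ vPool := by
    have hN : u.1 < 31671 := u.2
    rcases lt_or_ge u.1 8000 with h1 | h1
    · exact key scanV0 (Nat.zero_le _) (by omega)
    rcases lt_or_ge u.1 16000 with h2 | h2
    · exact key scanV1 h1 (by omega)
    rcases lt_or_ge u.1 24000 with h3 | h3
    · exact key scanV2 h2 (by omega)
    exact key scanV3 h3 (by omega)
  have h := z_ok
  simp only [zK, Bool.and_eq_true, List.all_eq_true, List.any_eq_true, List.mem_range, Nat.beq_eq] at h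
  obtain ⟨m, hm, hmv⟩ := h.2 _ hpool
  refine ⟨m, hm, ?_⟩
  obtain ⟨hze, hzb⟩ := zEl_spec hm
  have hgm : hom (zEl m) (mkPt vPt) = u := by
    rw [zEl, ← sEl_twH zW_lt]
    exact hom_sEl_eq (good_twH zW_lt) (by rw [mkPt_val vPt_lt]; exact hmv)
  rw [← hze]
  refine (inv_mul_eq_one.1 (eq_one_five (fun b hb' => ?_) ?_)).symm
  · rw [map_mul, Equiv.Perm.mul_apply, hb b hb', map_inv, Equiv.Perm.inv_def, Equiv.symm_apply_eq, hzb b hb']
  · rw [map_mul, Equiv.Perm.mul_apply, ← hu, map_inv, Equiv.Perm.inv_def, Equiv.symm_apply_eq, hgm]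

end CfsgLib.Sporadic.Fi23Ten
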